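import Groth.Prelude.Def_CInt
import Mathlib.AlgebraicGeometry.AffineSpace
import Mathlib.AlgebraicGeometry.Morphisms.SchemeTheoreticallyDominant
import Mathlib.AlgebraicGeometry.Morphisms.Separated

/-!
Schematically dominant families of morphisms and schematically dense opens.
-/

set_option autoImplicit false

universe u

open CategoryTheory Limits AlgebraicGeometry TopologicalSpace

namespace Groth.Agent.SchDomLib

variable {X : Scheme.{u}} {ι : Type u} {Z : ι → Scheme.{u}}

/-- A family of morphisms is schematically dominant. -/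
def SchDom (f : ∀ i, Z i ⟶ X) : Prop :=
  ∀ (V : X.Opens) (t : Γ(X, V)), (∀ i, (f i).app V t = 0) → t = 0

lemma SchDom.restrict {f : ∀ i, Z i ⟶ X} (hf : SchDom f) (U : X.Opens) :
    SchDom (fun i => f i ∣_ U) := by
  intro V t ht
  refine hf (U.ι ''ᵁ V) t (fun i => ?_)
  have h := ht i
  rw [morphismRestrict_app] at h
  exact (map_eq_zero_iff _
    (ConcreteCategory.bijective_of_isIso ((Z i).presheaf.map
      (eqToHom (image_morphismRestrict_preimage (f i) U V)).op)).1).1 h

lemma SchDom.isIso_of_factors {f : ∀ i, Z i ⟶ X} (hf : SchDom f) {Y : Scheme.{u}} (j : Y ⟶ X)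
    [IsClosedImmersion j] (h : ∀ i, ∃ g : Z i ⟶ Y, g ≫ j = f i) : IsIso j := by
  rw [IsClosedImmersion.isIso_iff_ker_eq_bot]
  refine Scheme.IdealSheafData.ext (funext fun V => ?_)
  simp only [Scheme.Hom.ker_apply, Scheme.IdealSheafData.ideal_bot, Pi.bot_apply]
  refine eq_bot_iff.2 (fun t ht => hf V t (fun i => ?_))
  obtain ⟨g, hg⟩ := h i
  simp only [RingHom.mem_ker] at ht
  rw [Scheme.Hom.congr_app hg.symm V]
  simp [ht]

lemma SchDom.hom_ext {f : ∀ i, Z i ⟶ X} (hf : SchDom f) {X' S : Scheme.{u}} (q : X' ⟶ S)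
    [IsSeparated q] (u v : X ⟶ X') (huv : u ≫ q = v ≫ q)
    (h : ∀ i, f i ≫ u = f i ≫ v) : u = v := by
  let d : X ⟶ pullback.diagonalObj q := pullback.lift u v huv
  have d1 : d ≫ pullback.fst q q = u := pullback.lift_fst _ _ _
  have d2 : d ≫ pullback.snd q q = v := pullback.lift_snd _ _ _
  have hiso : IsIso (pullback.snd (pullback.diagonal q) d) := by
    refine hf.isIso_of_factors _ (fun i => ⟨pullback.lift (f i ≫ u) (f i) ?_, pullback.lift_snd _ _ _⟩)
    apply pullback.hom_ext
    · rw [Category.assoc, Category.assoc, pullback.diagonal_fst, Category.assoc, d1, Category.comp_id]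
    · rw [Category.assoc, Category.assoc, pullback.diagonal_snd, Category.assoc, d2, Category.comp_id, h i]
  have h0 := pullback.condition (f := pullback.diagonal q) (g := d)
  have h1 := congr($h0 ≫ pullback.fst q q)
  have h2 := congr($h0 ≫ pullback.snd q q)
  rw [Category.assoc, Category.assoc, pullback.diagonal_fst, d1, Category.comp_id] at h1
  rw [Category.assoc, Category.assoc, pullback.diagonal_snd, d2, Category.comp_id] at h2
  exact (cancel_epi (pullback.snd (pullback.diagonal q) d)).1 (h1.symm.trans h2)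

lemma SchDom.of_hom_ext_affineSpace {S : Scheme.{u}} (p : X ⟶ S) {f : ∀ i, Z i ⟶ X}
    (h : ∀ (U : X.Opens) (u v : (U : Scheme.{u}) ⟶ 𝔸(PUnit.{u + 1}; S)),
      u ≫ 𝔸(PUnit.{u + 1}; S) ↘ S = U.ι ≫ p → v ≫ 𝔸(PUnit.{u + 1}; S) ↘ S = U.ι ≫ p →
      (∀ i, (f i ∣_ U) ≫ u = (f i ∣_ U) ≫ v) → u = v) : SchDom f := by
  intro V t ht
  let t' : Γ(V, ⊤) := V.topIso.inv t
  have key := h V (AffineSpace.homOfVector (V.ι ≫ p) (fun _ => t'))
    (AffineSpace.homOfVector (V.ι ≫ p) (fun _ => 0)) (by simp) (by simp) (fun i => by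
      rw [AffineSpace.comp_homOfVector, AffineSpace.comp_homOfVector]
      congr 1
      funext n
      simp only [Function.comp_apply, map_zero, morphismRestrict_appTop]
      have hn : ((f i).app (V.ι ''ᵁ ⊤)) (V.topIso.inv t) = 0 := by
        have nat := congr($((f i).naturality (eqToHom V.ι_image_top).op) t)
        simp only [CommRingCat.comp_apply] at nat
        exact nat.trans (by rw [ht i, map_zero])
      exact (congr((Z i).presheaf.map (eqToHom _).op $hn)).trans (map_zero _))
  have h2 := congr(($key).appTop (AffineSpace.coord S PUnit.unit))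
  rw [AffineSpace.homOfVector_appTop_coord, AffineSpace.homOfVector_appTop_coord] at h2
  exact (map_eq_zero_iff _ (ConcreteCategory.bijective_of_isIso V.topIso.inv).1).1 h2

lemma schDom_opens_ι {U : X.Opens} (hU : CInt.IsSchematicallyDense U) :
    SchDom (fun _ : PUnit.{u + 1} => U.ι) := by
  intro V t ht
  have h := ht PUnit.unit
  have hle : V ⊓ U ≤ U.ι ''ᵁ U.ι ⁻¹ᵁ V := fun x hx => ⟨⟨x, hx.2⟩, hx.1, rfl⟩
  refine hU V ?_
  rw [map_zero]
  have h' := (congr(X.presheaf.map (homOfLE hle).op $h)).trans (map_zero (X.presheaf.map (homOfLE hle).op).hom)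
  refine Eq.trans ?_ h'
  change _ = X.presheaf.map (homOfLE hle).op (X.presheaf.map (homOfLE (fun x hx => by obtain ⟨y, hy, rfl⟩ := hx; exact hy) : U.ι ''ᵁ U.ι ⁻¹ᵁ V ⟶ V).op t)
  rw [← CommRingCat.comp_apply, ← Functor.map_comp]
  rfl

lemma isSchematicallyDense_of_injective {U : X.Opens}
    (h : ∀ V : X.Opens, Function.Injective (U.ι.app V)) :
    CInt.IsSchematicallyDense U := by
  intro V a b hab
  refine h V ?_
  have hle : U.ι ''ᵁ U.ι ⁻¹ᵁ V ≤ V ⊓ U := by
    rintro x ⟨y, hy, rfl⟩; exact ⟨hy, y.2⟩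
  have h' := congr(X.presheaf.map (homOfLE hle).op $hab)
  rw [← CommRingCat.comp_apply, ← CommRingCat.comp_apply, ← Functor.map_comp] at h'
  exact h'

lemma isSchematicallyDense_iff_schDom {U : X.Opens} :
    CInt.IsSchematicallyDense U ↔ SchDom (fun _ : PUnit.{u + 1} => U.ι) := by
  refine ⟨schDom_opens_ι, fun h => isSchematicallyDense_of_injective (fun V => ?_)⟩
  rw [injective_iff_map_eq_zero]
  exact fun t ht => h V t (fun _ => ht)

lemma isSchemeTheoreticallyDominant_opens_ι {U : X.Opens} [QuasiCompact U.ι]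
    (hU : CInt.IsSchematicallyDense U) : IsSchemeTheoreticallyDominant U.ι := by
  refine ⟨Scheme.IdealSheafData.ext (funext fun V => ?_)⟩
  simp only [Scheme.Hom.ker_apply, Scheme.IdealSheafData.ideal_bot, Pi.bot_apply]
  exact eq_bot_iff.2 (fun t ht => schDom_opens_ι hU V t (fun _ => ht))

lemma hom_ext_of_isSchematicallyDense {U : X.Opens} (hU : CInt.IsSchematicallyDense U)
    {X' S : Scheme.{u}} (q : X' ⟶ S) [IsSeparated q] (u v : X ⟶ X') (huv : u ≫ q = v ≫ q)
    (h : U.ι ≫ u = U.ι ≫ v) : u = v :=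
  (schDom_opens_ι hU).hom_ext q u v huv (fun _ => h)

end Groth.Agent.SchDomLib
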