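import Groth.Agent.SchDomLib.Basic

/-! # Morphisms are determined on a relatively schematically dense open, if the fibres of the target are separated -/

universe u
open CategoryTheory CategoryTheory.Limits AlgebraicGeometry

namespace Groth.Agent.SchDomLib

lemma schDom_of_isIso_pullback {X' X : Scheme.{u}} (φ : X' ⟶ X) [IsIso φ] {U : X.Opens}
    (hU : CInt.IsSchematicallyDense (φ ⁻¹ᵁ U)) {E : Scheme.{u}} (e : E ⟶ X) [IsClosedImmersion e]
    (h : ∃ g : (U : Scheme.{u}) ⟶ E, g ≫ e = U.ι) : IsIso e := by
  obtain ⟨g, hg⟩ := h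
  haveI : IsIso (pullback.fst φ e) := by
    refine (schDom_opens_ι hU).isIso_of_factors _ (fun _ => ⟨pullback.lift (φ ⁻¹ᵁ U).ι (φ ∣_ U ≫ g) ?_, pullback.lift_fst _ _ _⟩)
    rw [Category.assoc, hg, morphismRestrict_ι]
  have : IsIso (pullback.snd φ e ≫ e) := pullback.condition (f := φ) (g := e) ▸ inferInstance
  exact IsIso.of_isIso_comp_left (pullback.snd φ e) e

/-- If `U ⊆ X` is schematically dense relative to `S` and the fibres of `Y → S` are separated, two
`S`-morphisms `X ⟶ Y` which agree on `U` are equal. -/
theorem hom_ext_of_relDense_of_fibres {S X Y : Scheme.{u}} (x : X ⟶ S) (y : Y ⟶ S) {U : X.Opens}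
    (hU : ∀ (S' : Scheme.{u}) (g : S' ⟶ S), CInt.IsSchematicallyDense ((pullback.fst x g) ⁻¹ᵁ U))
    (hY : ∀ s : S, IsSeparated (pullback.snd y (S.fromSpecResidueField s)))
    (f g : X ⟶ Y) (hf : f ≫ y = x) (hg : g ≫ y = x) (h : U.ι ≫ f = U.ι ≫ g) : f = g := by
  let d : X ⟶ pullback y y := pullback.lift f g (hf.trans hg.symm)
  have key : ∀ {T : Scheme.{u}} (a : T ⟶ X), a ≫ f = a ≫ g →
      ∃ b : T ⟶ pullback (pullback.diagonal y) d, b ≫ pullback.snd (pullback.diagonal y) d = a := by
    intro T a ha
    refine ⟨pullback.lift (a ≫ f) a ?_, pullback.lift_snd _ _ _⟩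
    apply pullback.hom_ext
    · simp [d, pullback.lift_fst, pullback.lift_snd]
    · simp [d, ha, pullback.lift_fst, pullback.lift_snd]
  let e := pullback.snd (pullback.diagonal y) d
  have he : e ≫ f = e ≫ g := by
    have h0 := pullback.condition (f := pullback.diagonal y) (g := d)
    have h1 := congr($h0 ≫ pullback.fst y y)
    have h2 := congr($h0 ≫ pullback.snd y y)
    simp only [Category.assoc, pullback.diagonal_fst, pullback.diagonal_snd, Category.comp_id, d,
      pullback.lift_fst, pullback.lift_snd] at h1 h2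
    exact h1.symm.trans h2
  haveI : Surjective e := ⟨fun p => by
    have hp : p ∈ Set.range (pullback.fst x (S.fromSpecResidueField (x.base p))).base := by
      rw [Scheme.Pullback.range_fst, Scheme.range_fromSpecResidueField]
      exact Set.mem_singleton _
    obtain ⟨q, hq⟩ := hp
    haveI := hY (x.base p)
    obtain ⟨b, hb⟩ := key (pullback.fst x (S.fromSpecResidueField (x.base p))) (by
      have := hom_ext_of_isSchematicallyDense (hU _ (S.fromSpecResidueField (x.base p)))
        (pullback.snd y (S.fromSpecResidueField (x.base p)))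
        (pullback.map x _ y _ f (𝟙 _) (𝟙 _) (by simp [hf]) (by simp))
        (pullback.map x _ y _ g (𝟙 _) (𝟙 _) (by simp [hg]) (by simp)) (by simp [pullback.map, pullback.lift_fst, pullback.lift_snd]) (by
          apply pullback.hom_ext
          · simp only [pullback.map, Category.assoc, pullback.lift_fst]
            rw [← Category.assoc, ← Category.assoc, ← morphismRestrict_ι, Category.assoc, Category.assoc, h]
          · simp [pullback.map, pullback.lift_fst, pullback.lift_snd])
      simpa [pullback.map, pullback.lift_fst, pullback.lift_snd] using congr($this ≫ pullback.fst y _))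
    exact ⟨b.base q, (congr(($hb).base q)).trans hq⟩⟩
  haveI : IsClosedImmersion e := .of_isPreimmersion _ (by rw [e.surjective.range_eq]; exact isClosed_univ)
  haveI : IsIso e := schDom_of_isIso_pullback (pullback.fst x (𝟙 S)) (hU S (𝟙 S)) e (key _ h)
  exact (cancel_epi e).1 he

end Groth.Agent.SchDomLib
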